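import Groth.Agent.VBCurve.K553.SubDefs2

/-!
# The unfolding lemma of `K553.Sub.cl`, realized once

`K363.LocKer`, `K118.SecLin` and `K323.SubNum` unfold the recursive definition `cl`; each of them used to realize
`K553.Sub.cl.eq_def` with a proof of its own. They import this file, so that the lemma is realized only here.
-/

set_option autoImplicit false
universe u
open CategoryTheory AlgebraicGeometry

namespace K979.ClEq

theorem cl_zero {S : Scheme.{u}} (C : Over S) (n : ℕ) : K553.Sub.cl C n 0 = [] := by
  rw [K553.Sub.cl]

theorem cl_zero' {S : Scheme.{u}} (C : Over S) (n : ℕ) : K553.Sub.cl C n 0 = [] := by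
  simp [K553.Sub.cl]

end K979.ClEq
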